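import Cfsg.Agent.Lib.Comp.Fast

set_option maxRecDepth 100000
set_option Elab.async false

namespace Cfsg.Lib.Comp.G24x

universe u

def iv : ℕ → ℕ := (fun x => x)

noncomputable def R : List (List ℕ × ℕ) := [([1],1),
 ([2],1),
 ([1,2],1),
 ([3],1),
 ([2,3],1),
 ([1,2,3,1,3],0),
 ([4],1),
 ([3,4],1),
 ([2,3,4,2,4],0),
 ([1,4],2),
 ([5],1),
 ([1,5],1),
 ([1,2,5,2,5],0),
 ([3,5],2),
 ([4,5],2),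
 ([6],1),
 ([1,6],1),
 ([1,5,6,5,6],0),
 ([3,6],2),
 ([4,6],2),
 ([7],1),
 ([2,7],1),
 ([4,7],2),
 ([5,7],2),
 ([6,7],2),
 ([1,7],3),
 ([3,7],3),
 ([3,5,6,7],1),
 ([4,5,4,7,4,5,7,4,7,5,4,7],0),
 ([8],1),
 ([1,8],1),
 ([2,8],1),
 ([3,8],1),
 ([7,8],1),
 ([1,6,5,8,6,5,8],0),
 ([4,8],3),
 ([5,8],3),
 ([6,8],3),
 ([1,4,8],2),
 ([4,6,4,7,8,4,6,7,8,4,8,7,6,4,8,7],0)]

def L : List ℕ := [1,2,3,4,5,6,7,8]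

end Cfsg.Lib.Comp.G24x
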