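import Cfsg.Agent.Lib.Comp.G24x.MuH0_0
import Cfsg.Agent.Lib.Comp.G24x.MuH0_1
import Cfsg.Agent.Lib.Comp.G24x.MuH0_2
import Cfsg.Agent.Lib.Comp.G24x.MuH0_3
import Cfsg.Agent.Lib.Comp.G24x.MuH0_4
import Cfsg.Agent.Lib.Comp.G24x.MuH0_5
import Cfsg.Agent.Lib.Comp.G24x.Mu0
import Cfsg.Agent.Lib.Comp.G24x.Main
import Cfsg.Agent.Lib.Comp.Cover

set_option maxRecDepth 100000
set_option Elab.async false

namespace Cfsg.Lib.Comp.G24x

universe u

theorem MuH0_5_ord : Ord.{u} iv MuH0_5_R [1] 2 :=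
  (MuH0_5_idx.ord_base).of_cons (cons_of_subset (by decide +kernel))

theorem MuH0_4_ord : Ord.{u} iv MuH0_4_R [1,2] 4 :=
  (MuH0_4_idx.ord_step MuH0_5_ord).of_cons (cons_of_subset (by decide +kernel))

theorem MuH0_3_ord : Ord.{u} iv MuH0_3_R [1,2,3] 8 :=
  (MuH0_3_idx.ord_step MuH0_4_ord).of_cons (cons_of_subset (by decide +kernel))

theorem MuH0_2_ord : Ord.{u} iv MuH0_2_R [1,2,3,4] 24 :=
  (MuH0_2_idx.ord_step MuH0_3_ord).of_cons (cons_of_subset (by decide +kernel))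

theorem MuH0_1_ord : Ord.{u} iv MuH0_1_R [1,2,3,4,5] 168 :=
  (MuH0_1_idx.ord_step MuH0_2_ord).of_cons (cons_of_subset (by decide +kernel))

theorem MuH0_0_ord : Ord.{u} iv MuH0_0_R [1,2,3,4,5,6] 6048 :=
  (MuH0_0_idx.ord_step MuH0_1_ord).of_cons (cons_of_subset (by decide +kernel))

noncomputable def MuH0_lb_n_1 : Net :=
 (Net.cons 5 (nat_lit 0x400006002)
 (Net.cons 1 (nat_lit 0x9001000a4)
 (Net.cons 1 (nat_lit 0x500405214a)
 (Net.cons 1 (nat_lit 0x200a0280a4)
 (Net.cons 1 (nat_lit 0x5004050000)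
 (Net.cons 1 (nat_lit 0x800000000)
 (Net.cons 5 (nat_lit 0x400006002)
 Net.nil)))))))

noncomputable def MuH0_lb_n_2 : Net :=
 (Net.cons 20 (nat_lit 0xc0000)
 (Net.cons 10 (nat_lit 0x30000000)
 (Net.cons 5 (nat_lit 0x201800002)
 (Net.cons 1 (nat_lit 0x29025090a4)
 (Net.cons 1 (nat_lit 0x1214a1014a)
 (Net.cons 1 (nat_lit 0x2902508084)
 (Net.cons 1 (nat_lit 0xa0014a)
 (Net.cons 1 (nat_lit 0x500020)
 (Net.cons 5 (nat_lit 0x201800002)
 (Net.cons 10 (nat_lit 0x30000000)
 (Net.cons 20 (nat_lit 0xc0000)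
 Net.nil)))))))))))

noncomputable def MuH0_lb_n_3 : Net :=
 (Net.cons 20 (nat_lit 0x500)
 (Net.cons 10 (nat_lit 0x20200302)
 (Net.cons 5 (nat_lit 0x501006000)
 (Net.cons 1 (nat_lit 0x200a5284a4)
 (Net.cons 1 (nat_lit 0x4294212940)
 (Net.cons 1 (nat_lit 0x210a5290a0)
 (Net.cons 1 (nat_lit 0x280002800)
 (Net.cons 1 (nat_lit 0x40000000)
 (Net.cons 5 (nat_lit 0x501907000)
 (Net.cons 10 (nat_lit 0x20200302)
 (Net.cons 20 (nat_lit 0x302)
 Net.nil)))))))))))

noncomputable def MuH0_lb_n_4 : Net :=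
 (Net.cons 20 (nat_lit 0x24a00)
 (Net.cons 10 (nat_lit 0x29200388)
 (Net.cons 5 (nat_lit 0x400403010)
 (Net.cons 1 (nat_lit 0x2008028400)
 (Net.cons 1 (nat_lit 0x4280a1080a)
 (Net.cons 1 (nat_lit 0x2140509400)
 (Net.cons 1 (nat_lit 0x280a00000)
 (Net.cons 5 (nat_lit 0x400404410)
 (Net.cons 10 (nat_lit 0x29200388)
 (Net.cons 20 (nat_lit 0x24a00)
 Net.nil))))))))))

noncomputable def MuH0_lb_n_5 : Net :=
 (Net.cons 5 (nat_lit 0x400006016)
 (Net.cons 1 (nat_lit 0x84a008424)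
 (Net.cons 1 (nat_lit 0x500405214a)
 (Net.cons 1 (nat_lit 0x200a028024)
 (Net.cons 1 (nat_lit 0x500405000a)
 (Net.cons 1 (nat_lit 0x800008000)
 (Net.cons 5 (nat_lit 0x400006016)
 Net.nil)))))))

noncomputable def MuH0_lb_n_6 : Net :=
 (Net.cons 20 (nat_lit 0xd0168)
 (Net.cons 10 (nat_lit 0x37c00120)
 (Net.cons 5 (nat_lit 0x481c04000)
 (Net.cons 1 (nat_lit 0x2900128021)
 (Net.cons 1 (nat_lit 0x1290250000)
 (Net.cons 1 (nat_lit 0x2908420000)
 (Net.cons 1 (nat_lit 0x4850000)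
 (Net.cons 1 (nat_lit 0x2008000)
 (Net.cons 5 (nat_lit 0x480304000)
 (Net.cons 10 (nat_lit 0x37c00120)
 (Net.cons 20 (nat_lit 0xd0168)
 Net.nil)))))))))))

noncomputable def MuH0_lb_n : List Net := [Net.nil,
 MuH0_lb_n_1,
 MuH0_lb_n_2,
 MuH0_lb_n_3,
 MuH0_lb_n_4,
 MuH0_lb_n_5,
 MuH0_lb_n_6]

theorem MuH0_lb_n_ok : NetsOK 40 MuH0_lb_n := netsOK_of (by decide +kernel)

theorem MuH0_lb : 6048 ≤ Nat.card (cl (gp nets) [1,2,3,4,5,6]) :=
  lb_of_itwB (k := 6) (n := 36) nets_ok MuH0_lb_n_ok (by norm_num) (by norm_num) (tbA_pt nets_ok) (tbA_pt MuH0_lb_n_ok) (φ := look2 (nat_lit 0x80000900007000060000300004000050000b0000e0000c0000d0000f000100000a00021000200001f0001e0001d000120001c000130001a0001b000110001500022000240002300016000250001800017000190001400002) 20 64) (by decide +kernel) (by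
    rw [← cl_eq_of_slpB (k := 6) (D := []) MuH0_lb_n_ok (by norm_num) (by decide +kernel)]
    exact lb_of_chainB MuH0_lb_n_ok (C := [([1,2,3,4,5],[6,3,4,5,1,3,4,6,4,5,3],0,0,36),
 ([1,2,5],[3,4,5,1,3,4,1],1,1,21),
 ([],[1,2,5],2,2,8)]) (by decide +kernel))

theorem Mu_mb : MB (cl (gp nets) L) 5460 2 :=
  mb_cyc (w := 33) (n := 40) (La := L) (ix := nth 0 [0,0,1,3,6,10,15,20,29]) (by norm_num) (by norm_num) (nets_iv.sval _) (nets_rel.sval fun r hr x hx => mem_cl (sub_of_allR (by decide +kernel) r hr x hx)) (by decide +kernel)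
    (TStep.trans (TStep.trans (TStep.trans (TStep.trans (TStep.trans (TStep.trans (TStep.trans (TStep.trans (TStep.trans (TStep.trans (TStep.trans (TStep.trans (TStep.trans (TStep.trans (TStep.trans (TStep.trans (TStep.trans (TStep.trans (TStep.trans (TStep.trans (TStep.repar (k' := 32) (by norm_num) (by norm_num) (by decide +kernel) (by decide +kernel) Mu1_b)
    (TStep.repar (k' := 32) (by norm_num) (by norm_num) (by decide +kernel) (by decide +kernel) Mu2_b))
    (TStep.enum0 (by norm_num) (by norm_num) Mu3_0 (Gs := Mu3G) (by decide +kernel)))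
    (TStep.repar (k' := 32) (by norm_num) (by norm_num) (by decide +kernel) (by decide +kernel) Mu4_b))
    (TStep.enum0 (by norm_num) (by norm_num) Mu5_0 (Gs := Mu5G) (by decide +kernel)))
    (TStep.repar (k' := 30) (by norm_num) (by norm_num) (by decide +kernel) (by decide +kernel) Mu6_b))
    (TStep.enum0 (by norm_num) (by norm_num) Mu7_0 (Gs := Mu7G) (by decide +kernel)))
    (TStep.repar (k' := 27) (by norm_num) (by norm_num) (by decide +kernel) (by decide +kernel) Mu8_b))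
    (TStep.enum0 (by norm_num) (by norm_num) Mu9_0 (Gs := Mu9G) (by decide +kernel)))
    (TStep.repar (k' := 23) (by norm_num) (by norm_num) (by decide +kernel) (by decide +kernel) Mu10_b))
    (TStep.enum0 (by norm_num) (by norm_num) Mu11_0 (Gs := Mu11G) (by decide +kernel)))
    (TStep.repar (k' := 18) (by norm_num) (by norm_num) (by decide +kernel) (by decide +kernel) Mu12_b))
    (TStep.enum0 (by norm_num) (by norm_num) Mu13_0 (Gs := Mu13G) (by decide +kernel)))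
    (TStep.repar (k' := 11) (by norm_num) (by norm_num) (by decide +kernel) (by decide +kernel) Mu14_b))
    (TStep.enum0 (by norm_num) (by norm_num) Mu15_0 (Gs := Mu15G) (by decide +kernel)))
    (TStep.repar (k' := 6) (by norm_num) (by norm_num) (by decide +kernel) (by decide +kernel) Mu16_b))
    (TStep.enum (by norm_num) (by norm_num) Mu17_0 (I := [0,1,2,3,4,5,6,7,8,9,10,11,12,13,14,15,16,17,18,19]) (by decide +kernel) (by decide +kernel) MuH0_0_ord (c := 1) (lb_sval (fun _ hx => mem_cl (sub_of_subB (by decide +kernel) _ hx)) MuH0_lb (by norm_num)) (Gs := Mu17G) (by decide +kernel)))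
    (TStep.repar (k' := 2) (by norm_num) (by norm_num) (by decide +kernel) (by decide +kernel) Mu18_b))
    (TStep.enum (by norm_num) (by norm_num) Mu19_0 (I := [0,1,2,3,4,5,6,7,8,9,10,11,12,13,14,15,16,17,18,19]) (by decide +kernel) (by decide +kernel) MuH0_0_ord (c := 1) (lb_sval (fun _ hx => mem_cl (sub_of_subB (by decide +kernel) _ hx)) MuH0_lb (by norm_num)) (Gs := Mu19G) (by decide +kernel)))
    (TStep.repar (k' := 1) (by norm_num) (by norm_num) (by decide +kernel) (by decide +kernel) Mu20_b))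
    (TStep.cons (by norm_num) (by norm_num) (c := (nat_lit 0x1)) (v := 2) (by decide +kernel) (by decide +kernel)))
    (by norm_num) List.mem_cons_self (by norm_num)
    (TStep.repar (k' := 0) (by norm_num) (by norm_num) (by decide +kernel) (by decide +kernel) Mu22_b)
    (L := [1,2,3,4,5,6,7,8]) (I := [0,1,2,3,4,5,6,7,8,9,10,11,12,13,14,15,16,17,18,19,20,21,22,23,24,25,26,27,28,29,30,31,32,33,34,35,36,37,38,39]) (by decide +kernel) (by decide +kernel) ord card.ge (cl_sval_top _ _)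

end Cfsg.Lib.Comp.G24x
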