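import Cfsg.Agent.Lib.Comp.G24x.Base

set_option maxRecDepth 100000
set_option Elab.async false

namespace Cfsg.Lib.Comp.G24x

universe u

noncomputable def T2_R : List (List ℕ × ℕ) := [([1],1),
 ([2],1),
 ([1,2],1),
 ([3],1),
 ([2,3],1),
 ([1,2,3,1,3],0),
 ([4],1),
 ([3,4],1),
 ([2,3,4,2,4],0),
 ([1,4],2),
 ([5],1),
 ([1,5],1),
 ([1,2,5,2,5],0),
 ([3,5],2),
 ([4,5],2),
 ([6],1),
 ([1,6],1),
 ([1,5,6,5,6],0),
 ([3,6],2),
 ([4,6],2)]

noncomputable def T2_n_1 : Net :=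
 (Net.cons 20 (nat_lit 0x68000)
 (Net.cons 10 (nat_lit 0x3a000280)
 (Net.cons 5 (nat_lit 0x401e06808)
 (Net.cons 1 (nat_lit 0x284a501480)
 (Net.cons 1 (nat_lit 0x1294252048)
 (Net.cons 1 (nat_lit 0x290a501080)
 (Net.cons 1 (nat_lit 0x294200000)
 (Net.cons 1 (nat_lit 0x4a000000)
 (Net.cons 5 (nat_lit 0x401e06808)
 (Net.cons 10 (nat_lit 0x3a000280)
 (Net.cons 20 (nat_lit 0x68000)
 Net.nil)))))))))))

noncomputable def T2_n_2 : Net :=
 (Net.cons 20 (nat_lit 0xaa000)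
 (Net.cons 10 (nat_lit 0x6400280)
 (Net.cons 5 (nat_lit 0x401004000)
 (Net.cons 1 (nat_lit 0x142400080)
 (Net.cons 1 (nat_lit 0x1294a42848)
 (Net.cons 1 (nat_lit 0x148501080)
 (Net.cons 1 (nat_lit 0x14a02800)
 (Net.cons 1 (nat_lit 0x2400000)
 (Net.cons 5 (nat_lit 0x401405000)
 (Net.cons 10 (nat_lit 0x6d00280)
 (Net.cons 20 (nat_lit 0xaa000)
 Net.nil)))))))))))

noncomputable def T2_n_3 : Net :=
 (Net.cons 20 (nat_lit 0xa9040)
 (Net.cons 10 (nat_lit 0x214002c0)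
 (Net.cons 5 (nat_lit 0x500000000)
 (Net.cons 1 (nat_lit 0x800020000)
 (Net.cons 1 (nat_lit 0x1280a1080a)
 (Net.cons 1 (nat_lit 0x900501000)
 (Net.cons 1 (nat_lit 0x280a00000)
 (Net.cons 5 (nat_lit 0x101007800)
 (Net.cons 10 (nat_lit 0x86002c0)
 (Net.cons 20 (nat_lit 0xa9040)
 Net.nil))))))))))

noncomputable def T2_n_4 : Net :=
 (Net.cons 20 (nat_lit 0x4d240)
 (Net.cons 10 (nat_lit 0x30400034)
 (Net.cons 5 (nat_lit 0x1005004)
 (Net.cons 1 (nat_lit 0x900120004)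
 (Net.cons 1 (nat_lit 0x5210242842)
 (Net.cons 1 (nat_lit 0x2100121004)
 (Net.cons 1 (nat_lit 0x5000002800)
 (Net.cons 1 (nat_lit 0x800000000)
 (Net.cons 5 (nat_lit 0x201005414)
 (Net.cons 10 (nat_lit 0x30600034)
 (Net.cons 20 (nat_lit 0x4d240)
 Net.nil)))))))))))

noncomputable def T2_n_5 : Net :=
 (Net.cons 20 (nat_lit 0x30000)
 (Net.cons 10 (nat_lit 0x31000140)
 (Net.cons 5 (nat_lit 0x6004)
 (Net.cons 1 (nat_lit 0x2042001024)
 (Net.cons 1 (nat_lit 0x5280040040)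
 (Net.cons 1 (nat_lit 0x2100000020)
 (Net.cons 1 (nat_lit 0x5280000000)
 (Net.cons 1 (nat_lit 0x800000000)
 (Net.cons 5 (nat_lit 0x4c0006c14)
 (Net.cons 10 (nat_lit 0x31000140)
 (Net.cons 20 (nat_lit 0x30000)
 Net.nil)))))))))))

noncomputable def T2_n_6 : Net :=
 (Net.cons 20 (nat_lit 0x5e000)
 (Net.cons 10 (nat_lit 0x20800082)
 (Net.cons 5 (nat_lit 0x1001014)
 (Net.cons 1 (nat_lit 0x400400)
 (Net.cons 1 (nat_lit 0x4210202902)
 (Net.cons 1 (nat_lit 0x400001)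
 (Net.cons 5 (nat_lit 0x1001014)
 (Net.cons 10 (nat_lit 0x26900001)
 (Net.cons 20 (nat_lit 0x5e000)
 Net.nil)))))))))

noncomputable def T2_n : List Net := [Net.nil,
 T2_n_1,
 T2_n_2,
 T2_n_3,
 T2_n_4,
 T2_n_5,
 T2_n_6]

theorem T2_n_ok : NetsOK 40 T2_n := netsOK_of (by decide +kernel)

theorem T2_n_rel : Rels (gp T2_n) T2_R := rels_of_relsB (k := 6) T2_n_ok (by norm_num) (by decide +kernel)

noncomputable def T2_b0h : ℕ := (nat_lit 0x1000005000005000000002c000005000600000500002c000300002c00002c000500002800002c000200002c00002c000100000500002c0002000005000005000200000200002800060000280000280001000002000028)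

noncomputable def T2_b0c : List ℕ := [(nat_lit 0x1100002500030200000600002100001f00002300000600002100ac0600001b00000700001900001300a60400001700001300000600001100260400001300000a00000100600300001300000d000011000c0300000000000a00000900000300000a00730400000300000600000200000600220400000300000c00000100900300000000000b)]

theorem T2_fin : finB 40 T2_n [1,2,3,4,5,6] 36 (runH 40 T2_n (tbk 6 4 prs6 T2_n 64) iv T2_R [] ([1,2,3,4,5].map fun x => [x]) 0 [(fun t => look T2_b0h 64 t, T2_b0c)]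
  (apd [1,5,9,13,17,0,12,24,28,40,52,56,60,64,68,72,76,28,36,52,56,64,68,72,76,0,28,36,52,56,72,76,28,52,72,2,32,44,48,68,76,16,28,32,48,4,16,20,32,36,44,48,56,64,68,52,56,68,72,76]
 [20,32,36,48,56,64,68,72,76,0,4,8,20,32,44,48,52,68,72])
  (defsH 40 T2_n (ones 360) [6,3,4,5,6,1,3,4,5,6,3,4,5] (Nat.shiftLeft 1 0) 0)) = true := by decide +kernel

theorem T2_idx : Idx.{u} iv (T2_R ++ []) ([1,2,3,4,5].map fun x => [x]) [1,2,3,4,5,6] 36 :=
  Reach.idx T2_n_ok (reach_runH T2_n_ok (tbk_eq tr6 (by norm_num) (by norm_num) (by norm_num) T2_n_ok) T2_n_rel (reach_defsH T2_n_ok _ _ _ _ _ _) _ _) T2_fin (by norm_num)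

end Cfsg.Lib.Comp.G24x
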